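import Mathlib

/-!
Edge labellings of finite connected bipartite graphs with prescribed vertex sums.
-/

open scoped Classical

noncomputable section

namespace Groth.Agent.CombGraphLib

universe u v

variable {V : Type u} [Fintype V] [DecidableEq V] (G : SimpleGraph V) [DecidableRel G.Adj]

/-- the incidence map -/
def bd (A : Type v) [AddCommGroup A] : (Sym2 V → A) →+ (V → A) where
  toFun x v := ∑ e ∈ G.incidenceFinset v, x e
  map_zero' := by funext v; simp
  map_add' x y := by funext v; simp [Finset.sum_add_distrib]

/-- sign of a vertex -/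
def sg (c : V → Bool) (v : V) : ℤ := if c v then 1 else -1

lemma sg_mul_self (c : V → Bool) (v : V) : sg c v * sg c v = 1 := by
  unfold sg; split <;> simp

lemma bd_single {A : Type v} [AddCommGroup A] {v w : V} (h : G.Adj v w) (a : A) :
    bd G A (Pi.single s(v, w) a) = Pi.single v a + Pi.single w a := by
  funext u
  show ∑ e ∈ G.incidenceFinset u, (Pi.single s(v, w) a : Sym2 V → A) e = _
  rw [Finset.sum_pi_single', Pi.add_apply]
  simp only [SimpleGraph.mem_incidenceFinset, SimpleGraph.mk'_mem_incidenceSet_iff, h, true_and,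
    Pi.single_apply]
  have := h.ne
  by_cases hv : u = v <;> by_cases hw : u = w <;> simp_all

lemma exists_path_labelling {A : Type v} [AddCommGroup A] (c : V → Bool)
    (hbip : ∀ v w : V, G.Adj v w → c v ≠ c w) {v w : V} (p : G.Walk v w) (a : A) :
    ∃ x : Sym2 V → A, bd G A x = Pi.single v (sg c v • a) - Pi.single w (sg c w • a) := by
  induction p with
  | nil => exact ⟨0, by simp⟩
  | @cons x y z hxy p ih =>
    obtain ⟨q, hq⟩ := ih
    refine ⟨Pi.single s(x, y) (sg c x • a) + q, ?_⟩
    have hs : sg c y • a = -(sg c x • a) := by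
      have := hbip x y hxy
      rw [← neg_smul]
      congr 1
      unfold sg
      cases hx : c x <;> cases hy : c y <;> simp_all
    rw [map_add, bd_single G hxy, hq, hs]
    simp only [Pi.single_neg]
    abel

lemma exists_labelling {A : Type v} [AddCommGroup A] (hconn : G.Connected) (c : V → Bool)
    (hbip : ∀ v w : V, G.Adj v w → c v ≠ c w) (a : V → A)
    (hsum : ∑ v ∈ Finset.univ.filter (fun v => c v = true), a v =
      ∑ v ∈ Finset.univ.filter (fun v => c v = false), a v) :
    ∃ x : Sym2 V → A, ∀ v : V, ∑ e ∈ G.incidenceFinset v, x e = a v := by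
  obtain ⟨r⟩ := hconn.nonempty
  choose x hx using fun v => exists_path_labelling G c hbip (hconn.preconnected v r).some (sg c v • a v)
  refine ⟨∑ v, x v, fun u => ?_⟩
  have h0 : ∑ v, sg c v • a v = 0 := by
    rw [← Finset.sum_filter_add_sum_filter_not Finset.univ (fun v => c v = true)]
    rw [Finset.sum_congr rfl (g := a) (fun v hv => by simp [sg, (Finset.mem_filter.1 hv).2]),
      Finset.sum_congr (s₁ := Finset.univ.filter fun v => ¬ c v = true)
        (s₂ := Finset.univ.filter fun v => c v = false) (g := fun v => -a v)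
        (by ext v; simp) (fun v hv => by simp [sg, (Finset.mem_filter.1 hv).2]),
      Finset.sum_neg_distrib, hsum, add_neg_cancel]
  show bd G A (∑ v, x v) u = a u
  rw [map_sum]
  simp only [hx, smul_smul, sg_mul_self, one_smul, Finset.sum_sub_distrib, Finset.univ_sum_single]
  simp only [← smul_smul]
  have : (∑ v, (Pi.single r (sg c r • sg c v • a v) : V → A)) = 0 := by
    rw [show (∑ v, (Pi.single r (sg c r • sg c v • a v) : V → A)) = Pi.single r (∑ v, sg c r • sg c v • a v) from
      (map_sum (AddMonoidHom.single (fun _ : V => A) r) _ _).symm, ← Finset.smul_sum, h0, smul_zero, Pi.single_zero]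
  rw [this, sub_zero]

lemma exists_split {A : Type v} [AddCommGroup A] (c : V → Bool)
    (hbip : ∀ v w : V, G.Adj v w → c v ≠ c w) (e₀ : Sym2 V)
    (he₀ : e₀ ∈ G.edgeSet) (hdel : (G.deleteEdges {e₀}).Connected) :
    ∃ φ : A →+ (Sym2 V → A),
      (∀ a : A, (∀ e : Sym2 V, e ∉ G.edgeSet → φ a e = 0) ∧
        ∀ v : V, ∑ e ∈ G.incidenceFinset v, φ a e = 0) ∧
      ∀ a : A, φ a e₀ = a := by
  induction e₀ using Sym2.ind with
  | _ v w =>
  obtain ⟨x, hx⟩ := exists_path_labelling (A := ℤ) (G.deleteEdges {s(v, w)}) c
    (fun a b h => hbip a b (SimpleGraph.deleteEdges_le _ h))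
    (hdel.preconnected v w).some (sg c v)
  have hvw : G.Adj v w := he₀
  have hcw : sg c w * sg c v = -1 := by
    have := hbip v w hvw
    unfold sg
    cases hc1 : c v <;> cases hc2 : c w <;> simp_all
  let y : Sym2 V → ℤ := fun e => if e = s(v, w) then 1 else
    if e ∈ (G.deleteEdges {s(v, w)}).edgeSet then -x e else 0
  have hy : ∀ u, ∑ e ∈ G.incidenceFinset u, y e = 0 := by
    intro u
    have e1 := congr_fun hx u
    have e2 := congr_fun (bd_single G hvw (1 : ℤ)) u
    simp only [smul_eq_mul, sg_mul_self, hcw, Pi.sub_apply, Pi.single_neg, Pi.neg_apply, sub_neg_eq_add] at e1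
    change ∑ e ∈ (G.deleteEdges {s(v, w)}).incidenceFinset u, x e = _ at e1
    change ∑ e ∈ G.incidenceFinset u, (Pi.single s(v, w) (1 : ℤ) : Sym2 V → ℤ) e = _ at e2
    rw [Pi.add_apply, ← e1] at e2
    have hxz : ∀ e ∈ G.incidenceFinset u, y e = (Pi.single s(v, w) (1 : ℤ) : Sym2 V → ℤ) e -
        (if e ∈ (G.deleteEdges {s(v, w)}).incidenceFinset u then x e else 0) := by
      intro e he
      rw [SimpleGraph.mem_incidenceFinset] at he
      by_cases h : e = s(v, w)
      · subst h
        simp [y, SimpleGraph.incidenceSet]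
      · simp [y, h, SimpleGraph.incidenceSet, he.1, he.2]
    rw [Finset.sum_congr rfl hxz, Finset.sum_sub_distrib, e2, ← Finset.sum_filter, sub_eq_zero]
    congr 1
    ext e
    simp only [Finset.mem_filter, SimpleGraph.mem_incidenceFinset]
    exact ⟨fun h => ⟨⟨(SimpleGraph.edgeSet_subset_edgeSet.2 (SimpleGraph.deleteEdges_le _)) h.1, h.2⟩, h⟩,
      fun h => h.2⟩
  refine ⟨{ toFun := fun a e => y e • a, map_zero' := by funext e; simp,
            map_add' := fun a b => by funext e; simp }, fun a => ⟨fun e he => ?_, fun u => ?_⟩,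
    fun a => ?_⟩
  · show y e • a = 0
    have h1 : e ≠ s(v, w) := fun h => he (h ▸ he₀)
    have h2 : e ∉ (G.deleteEdges {s(v, w)}).edgeSet := fun h =>
      he (SimpleGraph.edgeSet_subset_edgeSet.2 (SimpleGraph.deleteEdges_le _) h)
    simp only [y, if_neg h1, if_neg h2, zero_smul]
  · show ∑ e ∈ G.incidenceFinset u, y e • a = 0
    rw [← Finset.sum_smul, hy, zero_smul]
  · show y s(v, w) • a = a
    simp [y]

lemma balanced (A : Type v) [AddCommGroup A] (c : V → Bool)
    (hbip : ∀ v w : V, G.Adj v w → c v ≠ c w) (x : Sym2 V → A) :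
    ∑ v, sg c v • bd G A x v = 0 := by
  show ∑ v, sg c v • (∑ e ∈ G.incidenceFinset v, x e) = 0
  simp only [Finset.smul_sum]
  rw [Finset.sum_comm' (t' := G.edgeFinset) (s' := fun e => Finset.univ.filter fun v => v ∈ e)]
  · refine Finset.sum_eq_zero fun e he => ?_
    induction e using Sym2.ind with
    | _ a b =>
      have hab : G.Adj a b := SimpleGraph.mem_edgeFinset.1 he
      have : (Finset.univ.filter fun v => v ∈ s(a, b)) = {a, b} := by
        ext z; simp
      rw [this, Finset.sum_pair hab.ne, ← add_smul]
      have := hbip a b hab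
      unfold sg
      cases hc1 : c a <;> cases hc2 : c b <;> simp_all
  · intro v e
    simp [SimpleGraph.incidenceSet, and_comm]

set_option maxHeartbeats 1000000 in
lemma exists_cycle_param (hconn : G.Connected) (c : V → Bool)
    (hbip : ∀ v w : V, G.Adj v w → c v ≠ c w) (A : Type v) [AddCommGroup A] (n : ℕ)
    (hn : G.edgeFinset.card + 1 = Fintype.card V + n) :
    ∃ f : (Fin n → A) →+ (Sym2 V → A), Function.Injective f ∧
      Set.range f = {x : Sym2 V → A | (∀ e : Sym2 V, e ∉ G.edgeSet → x e = 0) ∧
        ∀ v : V, ∑ e ∈ G.incidenceFinset v, x e = 0} := by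
  obtain ⟨r⟩ := hconn.nonempty
  let ext : (G.edgeFinset → ℤ) →+ (Sym2 V → ℤ) :=
    { toFun := fun y e => if h : e ∈ G.edgeFinset then y ⟨e, h⟩ else 0
      map_zero' := by funext e; simp
      map_add' := fun a b => by funext e; by_cases h : e ∈ G.edgeFinset <;> simp only [h, dite_true, dite_false, Pi.add_apply, add_zero] }
  let D : (G.edgeFinset → ℤ) →ₗ[ℤ] ({v : V // v ≠ r} → ℤ) :=
    ((Pi.addMonoidHom fun v : {v : V // v ≠ r} =>
      (Pi.evalAddMonoidHom (fun _ : V => ℤ) v.1).comp ((bd G ℤ).comp ext))).toIntLinearMap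
  have hD : ∀ y v, D y v = bd G ℤ (ext y) v.1 := fun _ _ => rfl
  have hin : ∀ y e (h : e ∈ G.edgeFinset), ext y e = y ⟨e, h⟩ := fun y e h => dif_pos h
  have hout : ∀ y e, e ∉ G.edgeFinset → ext y e = 0 := fun y e h => dif_neg h
  have hext : ∀ x : Sym2 V → ℤ, bd G ℤ (ext fun e => x e.1) = bd G ℤ x := by
    intro x
    funext u
    refine Finset.sum_congr rfl fun e he => ?_
    have : e ∈ G.edgeFinset := SimpleGraph.mem_edgeFinset.2 ((G.mem_incidenceFinset _ _).1 he).1
    exact hin _ e this
  have hDsurj : Function.Surjective D := by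
    intro t
    let t' : V → ℤ := fun v => if h : v = r then
      -sg c r * ∑ w : {v : V // v ≠ r}, sg c w.1 * t w else t ⟨v, h⟩
    have hbal : ∑ v, sg c v * t' v = 0 := by
      rw [Fintype.sum_eq_add_sum_subtype_ne _ r]
      rw [Finset.sum_congr rfl (g := fun w : {v : V // v ≠ r} => sg c w.1 * t w)
        (fun w _ => by simp only [t', dif_neg w.2])]
      simp only [t', dite_true, ← mul_assoc, mul_neg, sg_mul_self]
      simp
    have hsum : ∑ v ∈ Finset.univ.filter (fun v => c v = true), t' v =
        ∑ v ∈ Finset.univ.filter (fun v => c v = false), t' v := by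
      rw [← Finset.sum_filter_add_sum_filter_not Finset.univ (fun v => c v = true)] at hbal
      rw [Finset.sum_congr rfl (g := t') (fun v hv => by simp [sg, (Finset.mem_filter.1 hv).2]),
        Finset.sum_congr (s₁ := Finset.univ.filter fun v => ¬ c v = true)
          (s₂ := Finset.univ.filter fun v => c v = false) (g := fun v => -t' v)
          (by ext v; simp) (fun v hv => by simp [sg, (Finset.mem_filter.1 hv).2]),
        Finset.sum_neg_distrib] at hbal
      linarith
    obtain ⟨x, hx⟩ := exists_labelling G hconn c hbip t' hsum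
    refine ⟨fun e => x e.1, funext fun v => ?_⟩
    rw [hD, hext]
    show ∑ e ∈ G.incidenceFinset v.1, x e = t v
    rw [hx]; simp [t', v.2]
  obtain ⟨S, hS⟩ := Module.projective_lifting_property D LinearMap.id hDsurj
  have hS' : ∀ t, D (S t) = t := fun t => LinearMap.congr_fun hS t
  have hrank : Module.finrank ℤ (LinearMap.ker D) = n := by
    let E : (G.edgeFinset → ℤ) ≃ₗ[ℤ] LinearMap.ker D × ({v : V // v ≠ r} → ℤ) :=
      { toFun := fun y => (⟨y - S (D y), by simp [map_sub, hS']⟩, D y)
        map_add' := fun a b => by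
          refine Prod.ext (Subtype.ext ?_) (map_add D a b)
          simp; abel
        map_smul' := fun z a => by
          refine Prod.ext (Subtype.ext ?_) (map_smul D z a)
          show z • a - S (D (z • a)) = z • (a - S (D a))
          rw [map_smul, map_smul, smul_sub]
        invFun := fun q => q.1.1 + S q.2
        left_inv := fun y => by simp
        right_inv := fun q => by
          have h0 : D q.1.1 = 0 := q.1.2
          refine Prod.ext (Subtype.ext ?_) ?_ <;> simp [hS', h0] }
    have h := E.finrank_eq
    rw [Module.finrank_prod, Module.finrank_fintype_fun_eq_card, Module.finrank_fintype_fun_eq_card,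
      Fintype.card_coe, Fintype.card_subtype_compl, Fintype.card_subtype_eq] at h
    have : 0 < Fintype.card V := Fintype.card_pos_iff.2 ⟨r⟩
    omega
  let b : Module.Basis (Fin n) ℤ (LinearMap.ker D) := Module.finBasisOfFinrankEq ℤ _ hrank
  let R : (G.edgeFinset → ℤ) →ₗ[ℤ] (Fin n → ℤ) :=
    b.equivFun.toLinearMap ∘ₗ (LinearMap.id - S ∘ₗ D).codRestrict (LinearMap.ker D) (fun y => by
      simp [map_sub, hS'])
  have hR : ∀ y, y = (∑ k, R y k • (b k).1) + S (D y) := by
    intro y
    have h := congrArg Subtype.val (b.sum_equivFun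
      ((LinearMap.id - S ∘ₗ D).codRestrict (LinearMap.ker D) (fun y => by simp [map_sub, hS']) y))
    simp only [Submodule.coe_sum, Submodule.coe_smul] at h
    rw [show (∑ k, R y k • (b k).1) = y - S (D y) from h]
    abel
  let f : (Fin n → A) →+ (Sym2 V → A) :=
    { toFun := fun y e => ∑ k, ext (b k).1 e • y k
      map_zero' := by funext e; simp
      map_add' := fun y z => by funext e; simp [Finset.sum_add_distrib] }
  refine ⟨f, ?_, ?_⟩
  · intro y z hyz
    funext i
    have key : ∀ w : Fin n → A, ∑ e : G.edgeFinset, R (Pi.single e 1) i • f w e.1 = w i := by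
      intro w
      show ∑ e : G.edgeFinset, R (Pi.single e 1) i • (∑ k, ext (b k).1 e.1 • w k) = w i
      simp only [Finset.smul_sum, smul_smul]
      rw [Finset.sum_comm]
      simp only [← Finset.sum_smul]
      have hk : ∀ k, ∑ e : G.edgeFinset, R (Pi.single e 1) i * ext (b k).1 e.1 =
          if i = k then 1 else 0 := by
        intro k
        have he : (b k).1 = ∑ e : G.edgeFinset, ext (b k).1 e.1 • (Pi.single e 1 : G.edgeFinset → ℤ) := by
          funext e'
          rw [Finset.sum_apply, Finset.sum_congr rfl (g := fun c => if e' = c then (b k).1 c else 0)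
            (fun c _ => by rw [Pi.smul_apply, hin _ _ c.2, smul_eq_mul, Pi.single_apply, mul_ite, mul_one, mul_zero]),
            Finset.sum_ite_eq]
          simp
        have hRb : R (b k).1 i = if i = k then 1 else 0 := by
          have : (LinearMap.id - S ∘ₗ D).codRestrict (LinearMap.ker D) (fun y => by simp [map_sub, hS']) (b k).1 = b k := by
            apply Subtype.ext
            have h0 : D (b k).1 = 0 := (b k).2
            simp [h0]
          simp only [R, LinearMap.comp_apply, this, LinearEquiv.coe_toLinearMap]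
          simp [Finsupp.single_apply, eq_comm]
        rw [← hRb]
        conv_rhs => rw [he, map_sum]
        simp only [map_smul, Finset.sum_apply, Pi.smul_apply, smul_eq_mul]
        exact Finset.sum_congr rfl fun e _ => mul_comm _ _
      rw [Finset.sum_congr rfl (fun k _ => by rw [hk k])]
      simp
    rw [← key y, ← key z, hyz]
  · apply subset_antisymm
    · rintro _ ⟨y, rfl⟩
      refine ⟨fun e he => ?_, fun v => ?_⟩
      · show ∑ k, ext (b k).1 e • y k = 0
        simp [hout _ _ (fun h => he (SimpleGraph.mem_edgeFinset.1 h))]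
      · show ∑ e ∈ G.incidenceFinset v, ∑ k, ext (b k).1 e • y k = 0
        rw [Finset.sum_comm]
        refine Finset.sum_eq_zero fun k _ => ?_
        rw [← Finset.sum_smul]
        have h0 : ∀ w : {v : V // v ≠ r}, bd G ℤ (ext (b k).1) w.1 = 0 := fun w =>
          congr_fun (show D (b k).1 = 0 from (b k).2) w
        have h1 : bd G ℤ (ext (b k).1) r = 0 := by
          have := balanced G ℤ c hbip (ext (b k).1)
          rw [Fintype.sum_eq_add_sum_subtype_ne _ r] at this
          simp only [h0, smul_eq_mul, mul_zero, Finset.sum_const_zero, add_zero] at this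
          have hne : sg c r ≠ 0 := by unfold sg; split <;> simp
          exact (mul_eq_zero.1 this).resolve_left hne
        by_cases hv : v = r
        · subst hv; exact (congrArg (fun z : ℤ => z • y k) h1).trans (zero_smul _ _)
        · exact (congrArg (fun z : ℤ => z • y k) (h0 ⟨v, hv⟩)).trans (zero_smul _ _)
    · rintro x ⟨hx0, hx⟩
      refine ⟨fun k => ∑ e : G.edgeFinset, R (Pi.single e 1) k • x e.1, funext fun e => ?_⟩
      show ∑ k, ext (b k).1 e • (∑ e' : G.edgeFinset, R (Pi.single e' 1) k • x e'.1) = x e
      by_cases he : e ∈ G.edgeFinset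
      · have hR' : ∀ e' : G.edgeFinset, (Pi.single e' 1 : G.edgeFinset → ℤ) ⟨e, he⟩ =
            (∑ k, R (Pi.single e' 1) k * (b k).1 ⟨e, he⟩) + S (D (Pi.single e' 1)) ⟨e, he⟩ := by
          intro e'
          have := congr_fun (hR (Pi.single e' 1)) ⟨e, he⟩
          simpa [Finset.sum_apply] using this
        simp only [Finset.smul_sum, smul_smul]
        rw [Finset.sum_comm]
        simp only [← Finset.sum_smul]
        have hmain : ∀ e' : G.edgeFinset, (∑ k, ext (b k).1 e * R (Pi.single e' 1) k) =
            (Pi.single e' 1 : G.edgeFinset → ℤ) ⟨e, he⟩ - S (D (Pi.single e' 1)) ⟨e, he⟩ := by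
          intro e'
          rw [hR' e', add_sub_cancel_right]
          exact Finset.sum_congr rfl fun k _ => by rw [hin _ _ he, mul_comm]
        simp only [hmain, sub_smul, Finset.sum_sub_distrib]
        have hz : ∑ e' : G.edgeFinset, S (D (Pi.single e' 1)) ⟨e, he⟩ • x e'.1 = 0 := by
          have hs : ∀ t, S t ⟨e, he⟩ = ∑ w, t w * S (Pi.single w 1) ⟨e, he⟩ := by
            intro t
            conv_lhs => rw [pi_eq_sum_univ' t, map_sum]
            simp only [Finset.sum_apply, map_smul, Pi.smul_apply, smul_eq_mul]
          rw [Finset.sum_congr rfl (fun e' _ => by rw [hs (D (Pi.single e' 1)), Finset.sum_smul])]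
          rw [Finset.sum_comm]
          refine Finset.sum_eq_zero fun w _ => ?_
          rw [Finset.sum_congr rfl (g := fun e' : G.edgeFinset =>
            S (Pi.single w 1) ⟨e, he⟩ • (D (Pi.single e' 1) w • x e'.1))
            (fun e' _ => by rw [mul_comm, mul_smul]), ← Finset.smul_sum]
          rw [show ∑ e' : G.edgeFinset, D (Pi.single e' 1) w • x e'.1 = 0 from ?_, smul_zero]
          rw [← hx w.1, ← Finset.sum_coe_sort (G.incidenceFinset w.1)]
          simp only [hD]
          rw [Finset.sum_coe_sort (G.incidenceFinset w.1) x]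
          have hb : ∀ e' : G.edgeFinset, bd G ℤ (ext (Pi.single e' 1)) w.1 =
              if e'.1 ∈ G.incidenceFinset w.1 then 1 else 0 := by
            intro e'
            have : ext (Pi.single e' 1) = Pi.single e'.1 1 := by
              funext z
              by_cases hz : z ∈ G.edgeFinset
              · rw [hin _ _ hz]; simp [Pi.single_apply, Subtype.ext_iff]
              · have : z ≠ e'.1 := fun h => hz (h ▸ e'.2)
                rw [hout _ _ hz, Pi.single_eq_of_ne this]
            rw [this]
            exact Finset.sum_pi_single' _ _ _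
          simp only [hb, ite_smul, one_smul, zero_smul]
          rw [Finset.sum_coe_sort G.edgeFinset (fun z => if z ∈ G.incidenceFinset w.1 then x z else 0),
            ← Finset.sum_filter]
          congr 1
          ext z
          simp only [Finset.mem_filter, SimpleGraph.mem_edgeFinset, SimpleGraph.mem_incidenceFinset]
          exact ⟨fun h => h.2, fun h => ⟨h.1, h⟩⟩
        rw [hz, sub_zero]
        rw [Finset.sum_eq_single ⟨e, he⟩]
        · simp
        · intro e' _ h; simp [h.symm]
        · simp
      · rw [hx0 e (by rwa [SimpleGraph.mem_edgeFinset] at he)]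
        simp [hout _ _ he]

end Groth.Agent.CombGraphLib
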